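import Groth.Agent.RankLocusLib.Glue

/-!
Properties of a representing immersion are local on the base.
-/

set_option autoImplicit false

noncomputable section

universe u

open CategoryTheory CategoryTheory.Limits AlgebraicGeometry TopologicalSpace Opposite

namespace RankLocusLib

variable {X : Scheme.{u}} {P : ∀ T : Scheme.{u}, (T ⟶ X) → Prop}

/-- A property local on the target passes to the representing monomorphism. -/
theorem property_of_local (Q : MorphismProperty Scheme.{u}) [IsZariskiLocalAtTarget Q] {Z : Scheme.{u}}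
    (i : Z ⟶ X) [Mono i] (hu : ∀ (T : Scheme.{u}) (f : T ⟶ X), (∃ g : T ⟶ Z, g ≫ i = f) ↔ P T f)
    (h : ∀ x : X, ∃ (V : X.Opens) (Zl : Scheme.{u}) (il : Zl ⟶ (V : Scheme.{u})), x ∈ V ∧ Mono il ∧ Q il ∧
      ∀ (T : Scheme.{u}) (g : T ⟶ (V : Scheme.{u})), P T (g ≫ V.ι) ↔ ∃ l : T ⟶ Zl, l ≫ il = g) : Q i := by
  choose V Zl il hy hmono hil hul using h
  refine (IsZariskiLocalAtTarget.iff_of_iSup_eq_top (P := Q) V
    (top_le_iff.1 fun y _ => Opens.mem_iSup.2 ⟨y, hy y⟩)).2 fun y => ?_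
  have := hmono y
  obtain ⟨a, ha⟩ := (hul y _ (i ∣_ V y)).1 (by
    rw [morphismRestrict_ι]
    exact (hu _ _).1 ⟨(i ⁻¹ᵁ V y).ι, rfl⟩)
  obtain ⟨b, hb⟩ := (hu _ (il y ≫ (V y).ι)).2 ((hul y _ (il y)).2 ⟨𝟙 _, Category.id_comp _⟩)
  let c : Zl y ⟶ ((i ⁻¹ᵁ V y : Z.Opens) : Scheme.{u}) :=
    IsOpenImmersion.lift (i ⁻¹ᵁ V y).ι b (by
      rintro _ ⟨z, rfl⟩
      rw [Scheme.Opens.range_ι]
      change i (b z) ∈ V y
      rw [← Scheme.Hom.comp_apply, hb]
      exact (il y z).2)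
  have hc : c ≫ (i ∣_ V y) = il y := by
    rw [← cancel_mono (V y).ι, Category.assoc, morphismRestrict_ι, ← Category.assoc,
      IsOpenImmersion.lift_fac, hb]
  have : Mono (i ∣_ V y) := ⟨fun {T} g h e => by
    rw [← cancel_mono (i ⁻¹ᵁ V y).ι, ← cancel_mono i]
    simp only [Category.assoc, ← morphismRestrict_ι]
    rw [← Category.assoc g, ← Category.assoc h, e]⟩
  haveI : IsIso a := ⟨c, by
    rw [← cancel_mono (i ∣_ V y), Category.assoc, hc, ha, Category.id_comp], by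
    rw [← cancel_mono (il y), Category.assoc, ha, hc, Category.id_comp]⟩
  exact ha ▸ (MorphismProperty.cancel_left_of_respectsIso Q a (il y)).2 (hil y)

end RankLocusLib
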