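import Groth.Agent.CohBCLib.FreeNhd
import Groth.Agent.KFlatLib.QCohPull
import Groth.Prelude.Def_FlatMod2

/-!
Free modules along morphisms, and the dictionary with bases of sections over affine opens.
-/

set_option autoImplicit false

universe u

open CategoryTheory CategoryTheory.Limits AlgebraicGeometry TopologicalSpace Opposite

namespace RankLocusLib

variable {X Y : Scheme.{u}}

/-- `F` pulls back to the free module of rank `r` along `f`. -/
def FreeAlong (r : ℕ) (F : X.Modules) (f : Y ⟶ X) : Prop :=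
  Nonempty ((Scheme.Modules.pullback f).obj F ≅ FlatMod.freeMod Y r)

/-- `F` pulls back to a locally free module of rank `r` along `f`. -/
def LocFreeAlong (r : ℕ) (F : X.Modules) {T : Scheme.{u}} (f : T ⟶ X) : Prop :=
  ∀ t : T, ∃ U : T.Opens, t ∈ U ∧ FreeAlong r F (U.ι ≫ f)

theorem freeAlong_comp {r : ℕ} {F : X.Modules} {f : Y ⟶ X} (h : FreeAlong r F f)
    {Z : Scheme.{u}} (g : Z ⟶ Y) : FreeAlong r F (g ≫ f) := by
  obtain ⟨e⟩ := h
  exact ⟨((Scheme.Modules.pullbackComp g f).app F).symm ≪≫ (Scheme.Modules.pullback g).mapIso e ≪≫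
    KFlatLib.pullFreeIso g r⟩

theorem freeAlong_pullback_iff {r : ℕ} {F : X.Modules} {T : Scheme.{u}} (f : T ⟶ X) (g : Y ⟶ T) :
    FreeAlong r ((Scheme.Modules.pullback f).obj F) g ↔ FreeAlong r F (g ≫ f) :=
  ⟨fun ⟨e⟩ => ⟨((Scheme.Modules.pullbackComp g f).app F).symm ≪≫ e⟩,
    fun ⟨e⟩ => ⟨(Scheme.Modules.pullbackComp g f).app F ≪≫ e⟩⟩

theorem freeAlong_restrict_iff {r : ℕ} (G : X.Modules) (U : X.Opens) :
    FreeAlong r G U.ι ↔ Nonempty (G.restrict U.ι ≅ FlatMod.freeMod (↑U) r) :=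
  ⟨fun ⟨e⟩ => ⟨(Scheme.Modules.restrictFunctorIsoPullback U.ι).app G ≪≫ e⟩,
    fun ⟨e⟩ => ⟨((Scheme.Modules.restrictFunctorIsoPullback U.ι).app G).symm ≪≫ e⟩⟩

theorem freeAlong_of_le {r : ℕ} {F : X.Modules} {T : Scheme.{u}} {f : T ⟶ X} {U V : T.Opens}
    (h : FreeAlong r F (U.ι ≫ f)) (hle : V ≤ U) : FreeAlong r F (V.ι ≫ f) := by
  rw [← T.homOfLE_ι hle, Category.assoc]
  exact freeAlong_comp h _

theorem isFinLocFreeOfRank_pullback_iff {r : ℕ} (F : X.Modules) {T : Scheme.{u}} (f : T ⟶ X) :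
    FlatMod.IsFinLocFreeOfRank r ((Scheme.Modules.pullback f).obj F) ↔ LocFreeAlong r F f := by
  refine forall_congr' fun t => exists_congr fun U => and_congr_right fun _ => ?_
  rw [← freeAlong_restrict_iff, freeAlong_pullback_iff]

theorem locFreeAlong_comp {r : ℕ} {F : X.Modules} {T : Scheme.{u}} {f : T ⟶ X}
    (h : LocFreeAlong r F f) {T' : Scheme.{u}} (g : T' ⟶ T) : LocFreeAlong r F (g ≫ f) := fun t => by
  obtain ⟨U, hU, hf⟩ := h (g t)
  refine ⟨g ⁻¹ᵁ U, hU, ?_⟩
  rw [← morphismRestrict_ι_assoc]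
  exact freeAlong_comp hf _

theorem locFreeAlong_of_local {r : ℕ} {F : X.Modules} {T : Scheme.{u}} (f : T ⟶ X)
    (h : ∀ t : T, ∃ V : T.Opens, t ∈ V ∧ LocFreeAlong r F (V.ι ≫ f)) : LocFreeAlong r F f := fun t => by
  obtain ⟨V, hV, hf⟩ := h t
  obtain ⟨O, hO, hfree⟩ := hf ⟨t, hV⟩
  refine ⟨V.ι ''ᵁ O, ⟨⟨t, hV⟩, hO, rfl⟩, ?_⟩
  have hr : Set.range (V.ι ''ᵁ O).ι ⊆ Set.range (O.ι ≫ V.ι) := by
    rintro _ ⟨⟨_, y, hy, rfl⟩, rfl⟩
    exact ⟨⟨y, hy⟩, rfl⟩
  rw [← IsOpenImmersion.lift_fac (O.ι ≫ V.ι) (V.ι ''ᵁ O).ι hr, Category.assoc, Category.assoc]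
  exact freeAlong_comp hfree _

/-- Maps out of the structure sheaf, on global sections. -/
theorem unit_app_eq' {Z : Scheme.{u}} {M : Z.Modules} (φ : Coh.structureModule Z ⟶ M) (r : Γ(Z, ⊤)) :
    φ.app ⊤ (show Γ(Coh.structureModule Z, ⊤) from r) = r • KFlatLib.unitSecEquiv M φ := by
  refine Eq.trans ?_ (QCohLib.app_smul φ ⊤ r (show Γ(Coh.structureModule Z, ⊤) from (1 : Γ(Z, ⊤))))
  exact congrArg (φ.app ⊤) (show (show Γ(Coh.structureModule Z, ⊤) from r) = r * (1 : Γ(Z, ⊤)) from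
    (mul_one r).symm)

/-- The standard basis of the sections of a free module. -/
theorem nonempty_basis_freeMod (Z : Scheme.{u}) (n : ℕ) :
    Nonempty (Module.Basis (Fin n) Γ(Z, ⊤) Γ(FlatMod.freeMod Z n, ⊤)) := by
  classical
  let ι : Fin n → (Coh.structureModule Z ⟶ FlatMod.freeMod Z n) :=
    fun i => Sigma.ι (fun _ : Fin n => Coh.structureModule Z) i
  let π : Fin n → (FlatMod.freeMod Z n ⟶ Coh.structureModule Z) :=
    fun i => Sigma.desc fun j => if j = i then 𝟙 _ else 0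
  have hid : ∑ i, π i ≫ ι i = 𝟙 (FlatMod.freeMod Z n) := by
    refine Sigma.hom_ext _ _ fun j => ?_
    rw [Preadditive.comp_sum, Category.comp_id, Finset.sum_eq_single j]
    · rw [Sigma.ι_desc_assoc, if_pos rfl, Category.id_comp]
    · intro i _ hij
      rw [Sigma.ι_desc_assoc, if_neg (Ne.symm hij), zero_comp]
    · simp
  let c : Γ(FlatMod.freeMod Z n, ⊤) → Fin n → Γ(Z, ⊤) :=
    fun x i => (show Γ(Z, ⊤) from (π i).app ⊤ x)
  have hdec : ∀ x, x = ∑ i, c x i • KFlatLib.unitSecEquiv _ (ι i) := fun x => by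
    have hx := congrArg (fun φ : FlatMod.freeMod Z n ⟶ FlatMod.freeMod Z n => φ.app ⊤ x) hid
    refine hx.symm.trans ?_
    have hsum : ∀ (t : Finset (Fin n)), (∑ i ∈ t, π i ≫ ι i).app ⊤ x = ∑ i ∈ t, c x i • KFlatLib.unitSecEquiv _ (ι i) := by
      intro t
      induction t using Finset.induction_on with
      | empty => rfl
      | insert a t ha ih =>
        rw [Finset.sum_insert ha, Finset.sum_insert ha, ← ih, ← unit_app_eq' (ι a) (c x a)]
        rfl
    exact hsum _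
  have hc : ∀ (a : Fin n → Γ(Z, ⊤)) (i : Fin n),
      (π i).app ⊤ (∑ j, a j • KFlatLib.unitSecEquiv _ (ι j)) = (show Γ(Coh.structureModule Z, ⊤) from a i) := by
    intro a i
    rw [map_sum, Finset.sum_eq_single i]
    · rw [← unit_app_eq']
      change (ι i ≫ π i).app ⊤ _ = _
      rw [Sigma.ι_desc, if_pos rfl]
      rfl
    · intro j _ hj
      rw [← unit_app_eq']
      change (ι j ≫ π i).app ⊤ _ = _
      rw [Sigma.ι_desc, if_neg hj]
      rfl
    · simp
  refine ⟨Module.Basis.mk (v := fun i => KFlatLib.unitSecEquiv _ (ι i))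
    (Fintype.linearIndependent_iff.2 fun a ha i => ?_) fun x _ => ?_⟩
  · exact ((hc a i).symm.trans ((congrArg ((π i).app ⊤) ha).trans (map_zero _)) :)
  · rw [hdec x]
    exact Submodule.sum_mem _ fun i _ => Submodule.smul_mem _ _ (Submodule.subset_span ⟨i, rfl⟩)

/-- A free restriction gives a basis of the sections. -/
theorem nonempty_basis_of_freeAlong {r : ℕ} (G : X.Modules) {U : X.Opens}
    (h : FreeAlong r G U.ι) : Nonempty (Module.Basis (Fin r) Γ(X, U) Γ(G, U)) := by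
  obtain ⟨e⟩ := (freeAlong_restrict_iff G U).1 h
  obtain ⟨b⟩ := nonempty_basis_freeMod (U : Scheme.{u}) r
  suffices H : ∀ V : X.Opens, V = U.ι ''ᵁ ⊤ → Nonempty (Module.Basis (Fin r) Γ(X, V) Γ(G, V)) from
    H U (Scheme.Opens.ι_image_top U).symm
  rintro V rfl
  let s : Γ(G.restrict U.ι, ⊤) ≃+ Γ(FlatMod.freeMod (↑U) r, ⊤) :=
    { toFun := fun x => e.hom.app ⊤ x
      invFun := fun x => e.inv.app ⊤ x
      left_inv := fun x => by
        change (e.hom ≫ e.inv).app ⊤ x = x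
        rw [e.hom_inv_id]; rfl
      right_inv := fun x => by
        change (e.inv ≫ e.hom).app ⊤ x = x
        rw [e.inv_hom_id]; rfl
      map_add' := fun x y => map_add _ x y }
  refine ⟨Module.Basis.ofRepr
    { toFun := fun x => b.repr (s x)
      map_add' := fun x y => (congrArg b.repr (map_add s x y)).trans (b.repr.map_add _ _)
      map_smul' := fun c x => ?_
      invFun := fun y => s.symm (b.repr.symm y)
      left_inv := fun x => (congrArg s.symm (b.repr.symm_apply_apply _)).trans (s.symm_apply_apply x)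
      right_inv := fun y => (congrArg b.repr (s.apply_symm_apply _)).trans (b.repr.apply_symm_apply y) }⟩
  refine (congrArg (fun z => b.repr (s z)) ?_).trans
    ((congrArg b.repr (QCohLib.app_smul e.hom ⊤ _ _)).trans (b.repr.map_smul c _))
  refine Eq.trans ?_ (Scheme.Modules.smul_restrictAppIso_hom_apply U.ι G ⊤ c x).symm
  rw [Scheme.Opens.ι_appIso]
  rfl

/-- A basis of the sections on an affine open gives a free restriction. -/
theorem freeAlong_of_basis {r : ℕ} (G : X.Modules) [Coh.IsQCoh G] {U : X.Opens} (hU : IsAffineOpen U)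
    (b : Module.Basis (Fin r) Γ(X, U) Γ(G, U)) : FreeAlong r G U.ι := by
  rw [freeAlong_restrict_iff]
  have : IsAffine (U : Scheme.{u}) := hU
  have : Coh.IsQCoh (G.restrict U.ι) := inferInstance
  obtain ⟨b'⟩ : Nonempty (Module.Basis (Fin r) Γ(X, U.ι ''ᵁ ⊤) Γ(G, U.ι ''ᵁ ⊤)) := by
    rw [Scheme.Opens.ι_image_top U]
    exact ⟨b⟩
  refine CohBCLib.nonempty_iso_freeMod _ (Module.Basis.ofRepr
    { toFun := fun x => b'.repr x
      map_add' := fun x y => b'.repr.map_add x y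
      map_smul' := fun c x => ?_
      invFun := fun y => b'.repr.symm y
      left_inv := b'.repr.symm_apply_apply
      right_inv := b'.repr.apply_symm_apply })
  refine (congrArg b'.repr ?_).trans (b'.repr.map_smul c x)
  refine (Scheme.Modules.smul_restrictAppIso_hom_apply U.ι G ⊤ c x).trans ?_
  rw [Scheme.Opens.ι_appIso]
  rfl

end RankLocusLib
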