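import Groth.Agent.CohBCLib.TensorA
import Groth.Agent.RankLocusLib.Mod

/-!
Pullbacks of `M~` which are free of given rank, in terms of the base change of `M`.
-/

set_option autoImplicit false

noncomputable section

universe u

open CategoryTheory CategoryTheory.Limits AlgebraicGeometry TopologicalSpace Opposite TensorProduct
open KFlatLib CohBCLib

namespace RankLocusLib

variable {A : Type u} [CommRing A] {X : Scheme.{u}} (f : X ⟶ Spec (CommRingCat.of A))

theorem exists_baseChange_tilde (M : ModuleCat.{u} A) {V : X.Opens} (hV : IsAffineOpen V) :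
    letI : Algebra A Γ(X, V) := (secA f V).toAlgebra
    letI : Module A Γ(pb f (tilde (R := CommRingCat.of A) M), V) := Module.compHom _ (secA f V)
    haveI : IsScalarTower A Γ(X, V) Γ(pb f (tilde (R := CommRingCat.of A) M), V) :=
      IsScalarTower.of_algebraMap_smul fun _ _ => rfl
    ∃ ψ : (M : Type u) →ₗ[A] Γ(pb f (tilde (R := CommRingCat.of A) M), V), IsBaseChange Γ(X, V) ψ := by
  let T := tilde (R := CommRingCat.of A) M
  let P := pb f T
  have hT : Coh.IsQCoh T := inferInstanceAs (tilde (R := CommRingCat.of A) M).IsQuasicoherent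
  let S' : Type u := Γ(Spec (CommRingCat.of A), ⊤)
  let : Algebra A S' := (Scheme.ΓSpecIso (CommRingCat.of A)).inv.hom.toAlgebra
  let : Algebra S' Γ(X, V) := (f.appLE ⊤ V le_top).hom.toAlgebra
  let : Algebra A Γ(X, V) := (secA f V).toAlgebra
  have : IsScalarTower A S' Γ(X, V) := IsScalarTower.of_algebraMap_eq fun _ => rfl
  let : Module S' Γ(P, V) := Module.compHom _ (f.appLE ⊤ V le_top).hom
  have : IsScalarTower S' Γ(X, V) Γ(P, V) := IsScalarTower.of_algebraMap_smul fun _ _ => rfl
  let : Module A Γ(P, V) := Module.compHom _ (secA f V)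
  have : IsScalarTower A Γ(X, V) Γ(P, V) := IsScalarTower.of_algebraMap_smul fun _ _ => rfl
  have : IsScalarTower A S' Γ(P, V) := IsScalarTower.of_algebraMap_smul fun _ _ => rfl
  let : Module A Γ(T, ⊤) := Module.compHom _ (algebraMap A S')
  have : IsScalarTower A S' Γ(T, ⊤) := IsScalarTower.of_algebraMap_smul fun _ _ => rfl
  let t₀ : (M : Type u) →ₗ[A] Γ(T, ⊤) :=
    { toFun := fun m => (show Γ(T, ⊤) from tilde.toOpen (R := CommRingCat.of A) M ⊤ m)
      map_add' := map_add (tilde.toOpen (R := CommRingCat.of A) M ⊤).hom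
      map_smul' := fun a m => by
        refine ((map_smul (tilde.toOpen (R := CommRingCat.of A) M ⊤).hom a m).trans
          (Scheme.Modules.smul_Spec_def (R := CommRingCat.of A) (M := tilde M) a _)).trans ?_
        have e : (Spec (CommRingCat.of A)).presheaf.map (⊤ : (Spec (CommRingCat.of A)).Opens).leTop.op = 𝟙 _ :=
          (congrArg _ (Subsingleton.elim _ (𝟙 _))).trans ((Spec (CommRingCat.of A)).presheaf.map_id _)
        exact congrArg (fun r : Γ(Spec (CommRingCat.of A), ⊤) =>
          r • (show Γ(T, ⊤) from tilde.toOpen (R := CommRingCat.of A) M ⊤ m))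
          (congr($(e) ((Scheme.ΓSpecIso (CommRingCat.of A)).inv a))) }
  have h₁ : IsBaseChange S' t₀ := by
    have hb : Function.Bijective (algebraMap A S') :=
      ConcreteCategory.bijective_of_isIso (Scheme.ΓSpecIso (CommRingCat.of A)).inv
    have hmk : Function.Bijective (TensorProduct.mk A S' M 1) := by
      let e : (M : Type u) ≃ₗ[A] S' ⊗[A] M := (TensorProduct.lid A M).symm.trans
        (TensorProduct.congr (LinearEquiv.ofBijective (Algebra.linearMap A S') hb) (LinearEquiv.refl A M))
      have : ⇑(TensorProduct.mk A S' M 1) = e := funext fun m => by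
        simp [e]
      rw [this]
      exact e.bijective
    refine IsBaseChange.of_equiv (LinearEquiv.ofBijective (t₀.liftBaseChange S') ?_) fun m => ?_
    · refine (Function.Bijective.of_comp_iff _ hmk).mp ?_
      have : ⇑(t₀.liftBaseChange S') ∘ ⇑(TensorProduct.mk A S' M 1) = t₀ := funext fun m => by
        simp
      rw [this]
      exact (tilde.isoTop (R := CommRingCat.of A) M).toLinearEquiv.bijective
    · simp
  let ψ : Γ(T, ⊤) →ₗ[S'] Γ(P, V) :=
    { toFun := puSecLE f T (U := ⊤) le_top
      map_add' := map_add _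
      map_smul' := fun r t => puSecLE_smul f T le_top r t }
  have h₂ : IsBaseChange Γ(X, V) ψ :=
    isBaseChange_puSec f T (isAffineOpen_top _) hV le_top (fun _ => rfl) ψ fun _ => rfl
  exact ⟨_, h₁.comp h₂⟩

/-- Freeness of the pullback of `M~` over an affine open is freeness of the base change of `M`. -/
theorem freeAlong_tilde_iff (M : ModuleCat.{u} A) {V : X.Opens} (hV : IsAffineOpen V) (n : ℕ) :
    letI : Algebra A Γ(X, V) := (secA f V).toAlgebra
    FreeAlong n (tilde (R := CommRingCat.of A) M) (V.ι ≫ f) ↔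
      Nonempty (Module.Basis (Fin n) Γ(X, V) (Γ(X, V) ⊗[A] (M : Type u))) := by
  let : Algebra A Γ(X, V) := (secA f V).toAlgebra
  let : Module A Γ(pb f (tilde (R := CommRingCat.of A) M), V) := Module.compHom _ (secA f V)
  have : IsScalarTower A Γ(X, V) Γ(pb f (tilde (R := CommRingCat.of A) M), V) :=
    IsScalarTower.of_algebraMap_smul fun _ _ => rfl
  have hT : Coh.IsQCoh (tilde (R := CommRingCat.of A) M) :=
    inferInstanceAs (tilde (R := CommRingCat.of A) M).IsQuasicoherent
  have : Coh.IsQCoh (pb f (tilde (R := CommRingCat.of A) M)) := KFlatLib.isQCoh_pullback f _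
  obtain ⟨ψ, hψ⟩ := exists_baseChange_tilde f M hV
  rw [← freeAlong_pullback_iff]
  constructor
  · intro h
    obtain ⟨b⟩ := nonempty_basis_of_freeAlong _ h
    exact ⟨b.map hψ.equiv.symm⟩
  · rintro ⟨b⟩
    exact freeAlong_of_basis _ hV (b.map hψ.equiv)

end RankLocusLib
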