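import Groth.Agent.FlatCxLib.Rank
import Mathlib.RingTheory.IsTensorProduct
import Mathlib.RingTheory.FiniteType

/-!
The rank locus of a module with a chosen family of generators: base change is free on the
generators iff the ring map kills the ideal of relations.
-/

set_option autoImplicit false

universe u

open scoped TensorProduct

namespace RankLocusLib

open FlatCxLib (fibreRank)

variable {A : Type u} [CommRing A] {M : Type u} [AddCommGroup M] [Module A M] {r : ℕ} (m : Fin r → M)

/-- The ideal of coefficients of the relations between the `m i`. -/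
def relIdeal : Ideal A :=
  Ideal.span {a | ∃ v ∈ LinearMap.ker (Fintype.linearCombination A m), ∃ i, v i = a}

theorem mem_relIdeal {v : Fin r → A} (hv : Fintype.linearCombination A m v = 0) (i : Fin r) :
    v i ∈ relIdeal m :=
  Ideal.subset_span ⟨v, hv, i, rfl⟩

section BaseChange

variable {m} {B : Type u} [CommRing B] [Algebra A B] {N : Type u} [AddCommGroup N] [Module A N]
  [Module B N] [IsScalarTower A B N] {j : M →ₗ[A] N} (hj : IsBaseChange B j)

include hj in
/-- Generators remain generators after base change. -/
theorem span_range_comp (hm : Submodule.span A (Set.range m) = ⊤) :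
    Submodule.span B (Set.range (j ∘ m)) = ⊤ := by
  refine eq_top_iff.2 fun z hz' => ?_
  clear hz'
  induction z using hj.inductionOn with
  | zero => exact zero_mem _
  | tmul x =>
    have hx : x ∈ Submodule.span A (Set.range m) := hm ▸ Submodule.mem_top
    have := Submodule.mem_map_of_mem (f := j) hx
    rw [Submodule.map_span, ← Set.range_comp] at this
    exact Submodule.span_le_restrictScalars A B _ this
  | smul b z hz => exact Submodule.smul_mem _ b hz
  | add z w hz hw => exact add_mem hz hw

include hj in
/-- Killing the relations, the images of the generators are a basis. -/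
theorem nonempty_basis_of_relIdeal_le (hm : Submodule.span A (Set.range m) = ⊤)
    (hI : relIdeal m ≤ RingHom.ker (algebraMap A B)) : Nonempty (Module.Basis (Fin r) B N) := by
  classical
  let φ := Fintype.linearCombination A m
  have hφ : Function.Surjective φ := by
    rw [← LinearMap.range_eq_top, Fintype.range_linearCombination, hm]
  let c : (Fin r → A) →ₗ[A] (Fin r → B) := LinearMap.pi fun i => (Algebra.linearMap A B).comp (LinearMap.proj i)
  have hc : LinearMap.ker φ ≤ LinearMap.ker c := fun v hv => by
    ext i
    exact hI (mem_relIdeal m hv i)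
  let g : M →ₗ[A] (Fin r → B) :=
    ((LinearMap.ker φ).liftQ c hc).comp (φ.quotKerEquivOfSurjective hφ).symm.toLinearMap
  have hg : ∀ v, g (φ v) = c v := fun v => by
    have : (φ.quotKerEquivOfSurjective hφ).symm (φ v) = Submodule.Quotient.mk v := by
      rw [LinearEquiv.symm_apply_eq, LinearMap.quotKerEquivOfSurjective_apply_mk]
    exact (congrArg ((LinearMap.ker φ).liftQ c hc) this).trans (Submodule.liftQ_apply _ _ v)
  let Φ := Fintype.linearCombination B (j ∘ m)
  have hΦ : Function.Surjective Φ := by
    rw [← LinearMap.range_eq_top, Fintype.range_linearCombination, span_range_comp hj hm]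
  have hGΦ : (hj.lift g).comp Φ = LinearMap.id := by
    refine (Pi.basisFun B (Fin r)).ext fun i => ?_
    rw [Pi.basisFun_apply, LinearMap.comp_apply, LinearMap.id_apply,
      Fintype.linearCombination_apply_single, one_smul, Function.comp_apply, hj.lift_eq,
      show m i = φ (Pi.single i 1) by simp [φ, Fintype.linearCombination_apply_single], hg]
    ext k
    simp [c, Pi.single_apply, apply_ite (algebraMap A B)]
  have hinj : Function.Injective Φ := fun v w h => by
    have h1 := LinearMap.congr_fun hGΦ v
    have h2 := LinearMap.congr_fun hGΦ w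
    simp only [LinearMap.comp_apply, LinearMap.id_apply] at h1 h2
    rw [← h1, ← h2, h]
  exact ⟨Module.Basis.ofEquivFun (LinearEquiv.ofBijective Φ ⟨hinj, hΦ⟩).symm⟩

include hj in
/-- If the base change is free of rank `r`, the relations are killed. -/
theorem relIdeal_le_of_basis (hm : Submodule.span A (Set.range m) = ⊤)
    (b : Module.Basis (Fin r) B N) : relIdeal m ≤ RingHom.ker (algebraMap A B) := by
  classical
  let Φ := Fintype.linearCombination B (j ∘ m)
  have hΦ : Function.Surjective Φ := by
    rw [← LinearMap.range_eq_top, Fintype.range_linearCombination, span_range_comp hj hm]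
  let E : (Fin r → B) →ₗ[B] (Fin r → B) := b.equivFun.toLinearMap.comp Φ
  have hE : Function.Injective E :=
    OrzechProperty.injective_of_surjective_endomorphism E (b.equivFun.surjective.comp hΦ)
  refine Ideal.span_le.2 ?_
  rintro a ⟨v, hv, i, rfl⟩
  have hv' : Φ (fun k => algebraMap A B (v k)) = 0 := by
    refine Eq.trans ?_ ((congrArg j (LinearMap.mem_ker.1 hv)).trans (map_zero j))
    simp [Φ, Fintype.linearCombination_apply, map_sum]
  have h0 : E (fun k => algebraMap A B (v k)) = E 0 := by
    rw [map_zero, LinearMap.comp_apply, hv', map_zero]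
  exact congrFun (hE h0) i

include hj in
/-- If the base change is free of rank `r`, the fibres below have rank at most `r`. -/
theorem fibreRank_le_of_basis (b : Module.Basis (Fin r) B N) (p : PrimeSpectrum B) :
    fibreRank M (PrimeSpectrum.comap (algebraMap A B) p) = r := by
  set q := PrimeSpectrum.comap (algebraMap A B) p with hq
  let K := p.asIdeal.ResidueField
  let k := q.asIdeal.ResidueField
  letI : Algebra k K :=
    (Ideal.ResidueField.map q.asIdeal p.asIdeal (algebraMap A B) rfl).toAlgebra
  haveI : IsScalarTower A k K := IsScalarTower.of_algebraMap_eq fun a => by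
    rw [RingHom.algebraMap_toAlgebra, Ideal.ResidueField.map_algebraMap,
      IsScalarTower.algebraMap_apply A B K]
  have e1 : K ⊗[k] (k ⊗[A] M) ≃ₗ[K] K ⊗[A] M :=
    TensorProduct.AlgebraTensorModule.cancelBaseChange A k K K M
  have e2 : K ⊗[A] M ≃ₗ[K] K ⊗[B] (B ⊗[A] M) :=
    (TensorProduct.AlgebraTensorModule.cancelBaseChange A B K K M).symm
  have e3 : K ⊗[B] (B ⊗[A] M) ≃ₗ[K] K ⊗[B] N :=
    TensorProduct.AlgebraTensorModule.congr (LinearEquiv.refl K K) hj.equiv
  have hfin : Module.finrank K (K ⊗[B] N) = r := by
    rw [Module.finrank_eq_card_basis (b.baseChange K), Fintype.card_fin]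
  rw [fibreRank, ← Module.finrank_baseChange (R := K), e1.finrank_eq, e2.finrank_eq, e3.finrank_eq, hfin]

end BaseChange

/-- If the fibre at `q` has rank at most `r`, `r` elements generate near `q`. -/
theorem exists_generators [Module.Finite A M] (q : PrimeSpectrum A) (h : fibreRank M q ≤ r) :
    ∃ g ∉ q.asIdeal, ∃ m : Fin r → M,
      ∀ x : M, ∃ k : ℕ, g ^ k • x ∈ Submodule.span A (Set.range m) := by
  classical
  let K := q.asIdeal.ResidueField
  obtain ⟨b, hb0, hb1, hb2⟩ := exists_linearIndependent K
    (Set.range fun x : M => (1 : K) ⊗ₜ[A] x)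
  have hspan : Submodule.span K b = ⊤ := by
    rw [hb1, eq_top_iff]
    intro z _
    induction z using TensorProduct.induction_on with
    | zero => exact zero_mem _
    | tmul k x =>
      rw [show k ⊗ₜ[A] x = k • ((1 : K) ⊗ₜ[A] x) by rw [TensorProduct.smul_tmul', smul_eq_mul, mul_one]]
      exact Submodule.smul_mem _ _ (Submodule.subset_span ⟨x, rfl⟩)
    | add z w hz hw => exact add_mem (hz Submodule.mem_top) (hw Submodule.mem_top)
  let bas : Module.Basis b K (K ⊗[A] M) := Module.Basis.mk hb2 (by rw [Subtype.range_coe, hspan])
  haveI : Finite b := Module.Finite.finite_basis bas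
  haveI := Fintype.ofFinite b
  have hmem : ∀ i : b, ∃ x : M, (1 : K) ⊗ₜ[A] x = (i : K ⊗[A] M) := fun i =>
    (show b ⊆ Set.range fun x : M => (1 : K) ⊗ₜ[A] x from hb0) i.2
  choose n hn using hmem
  let e : b ≃ Fin (Fintype.card b) := Fintype.equivFin b
  have hcard : Fintype.card b ≤ r := by
    rw [← Module.finrank_eq_card_basis bas]
    exact h
  let m : Fin r → M := fun i => if hi : (i : ℕ) < Fintype.card b then n (e.symm ⟨i, hi⟩) else 0
  have hnm : ∀ i : b, n i ∈ Set.range m := fun i => ⟨Fin.castLE hcard (e i), by
    change (if hi : ((Fin.castLE hcard (e i) : Fin r) : ℕ) < Fintype.card b then _ else _) = _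
    rw [dif_pos (by rw [Fin.val_castLE]; exact (e i).2)]
    refine (congrArg n (congrArg e.symm ?_)).trans (congrArg n (e.symm_apply_apply i))
    exact Fin.ext (Fin.val_castLE hcard (e i))⟩
  let F := Fintype.linearCombination A m
  have hC : q ∉ Module.support A (M ⧸ LinearMap.range F) := by
    rw [Module.mem_support_iff_nontrivial_residueField_tensorProduct, not_nontrivial_iff_subsingleton]
    have hsurj : Function.Surjective ((LinearMap.range F).mkQ.baseChange K) :=
      LinearMap.lTensor_surjective K (Submodule.mkQ_surjective _)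
    have hzero : (LinearMap.range F).mkQ.baseChange K = 0 := by
      refine bas.ext fun i => ?_
      rw [Module.Basis.mk_apply, ← hn i, LinearMap.baseChange_tmul, LinearMap.zero_apply]
      have : (LinearMap.range F).mkQ (n i) = 0 := (Submodule.Quotient.mk_eq_zero _).2 (by
        rw [Fintype.range_linearCombination]
        exact Submodule.subset_span (hnm i))
      rw [this, TensorProduct.tmul_zero]
    refine ⟨fun z w => ?_⟩
    obtain ⟨z, rfl⟩ := hsurj z
    obtain ⟨w, rfl⟩ := hsurj w
    rw [hzero]; rfl
  rw [Module.support_eq_zeroLocus, PrimeSpectrum.mem_zeroLocus, Set.not_subset] at hC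
  obtain ⟨g, hg, hgq⟩ := hC
  refine ⟨g, hgq, m, fun x => ⟨1, ?_⟩⟩
  rw [pow_one, ← Fintype.range_linearCombination, ← Submodule.Quotient.mk_eq_zero,
    Submodule.Quotient.mk_smul]
  exact Module.mem_annihilator.1 hg _

end RankLocusLib
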