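import Groth.Agent.RankLocusLib.Glue
import Groth.Agent.RankLocusLib.Alg
import Groth.Agent.RankLocusLib.Mod
import Groth.Agent.KFlatLib.AffinePull
import Groth.Agent.QCohLib.AffineFinite

/-!
The locus over which a quasi-coherent module of finite type becomes locally free of rank `r`.
-/

set_option autoImplicit false
set_option maxHeartbeats 800000

noncomputable section

universe u

open CategoryTheory CategoryTheory.Limits AlgebraicGeometry TopologicalSpace Opposite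

namespace RankLocusLib

variable {X T : Scheme.{u}} (F : X.Modules) [Coh.IsQCoh F] {r : ℕ}
  {W : X.Opens} (hW : IsAffineOpen W)

/-- `r` sections on `W` which generate `F`. -/
def Gen (r : ℕ) (W : X.Opens) : Prop :=
  ∃ m : Fin r → Γ(F, W), Submodule.span Γ(X, W) (Set.range m) = ⊤

section Affine

variable (f : T ⟶ X) {U : T.Opens} (hU : IsAffineOpen U) (hle : U ≤ f ⁻¹ᵁ W)

include hW hU in
/-- The dictionary between the pullback over an affine open and the base change of the sections. -/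
theorem exists_baseChange :
    letI : Algebra Γ(X, W) Γ(T, U) := (f.appLE W U hle).hom.toAlgebra
    letI : Module Γ(X, W) Γ(KFlatLib.pb f F, U) := Module.compHom _ (f.appLE W U hle).hom
    haveI : IsScalarTower Γ(X, W) Γ(T, U) Γ(KFlatLib.pb f F, U) :=
      ⟨fun a b c => mul_smul ((f.appLE W U hle).hom a) b c⟩
    ∃ ψ : Γ(F, W) →ₗ[Γ(X, W)] Γ(KFlatLib.pb f F, U), IsBaseChange Γ(T, U) ψ := by
  letI : Algebra Γ(X, W) Γ(T, U) := (f.appLE W U hle).hom.toAlgebra
  letI : Module Γ(X, W) Γ(KFlatLib.pb f F, U) := Module.compHom _ (f.appLE W U hle).hom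
  haveI : IsScalarTower Γ(X, W) Γ(T, U) Γ(KFlatLib.pb f F, U) :=
    ⟨fun a b c => mul_smul ((f.appLE W U hle).hom a) b c⟩
  exact ⟨{ toFun := KFlatLib.puSecLE f F hle
           map_add' := map_add _
           map_smul' := fun a m => KFlatLib.puSecLE_smul f F hle a m },
    KFlatLib.isBaseChange_puSec f F hW hU hle (fun _ => rfl) _ (fun _ => rfl)⟩

include hW hU in
theorem freeAlong_iff_relIdeal_le {m : Fin r → Γ(F, W)}
    (hm : Submodule.span Γ(X, W) (Set.range m) = ⊤) :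
    FreeAlong r F (U.ι ≫ f) ↔ relIdeal m ≤ RingHom.ker (f.appLE W U hle).hom := by
  letI : Algebra Γ(X, W) Γ(T, U) := (f.appLE W U hle).hom.toAlgebra
  letI : Module Γ(X, W) Γ(KFlatLib.pb f F, U) := Module.compHom _ (f.appLE W U hle).hom
  haveI : IsScalarTower Γ(X, W) Γ(T, U) Γ(KFlatLib.pb f F, U) :=
    ⟨fun a b c => mul_smul ((f.appLE W U hle).hom a) b c⟩
  obtain ⟨ψ, hψ⟩ := exists_baseChange F hW f hU hle
  have : Coh.IsQCoh (KFlatLib.pb f F) := KFlatLib.isQCoh_pullback f F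
  constructor
  · intro h
    obtain ⟨b⟩ := nonempty_basis_of_freeAlong (KFlatLib.pb f F) ((freeAlong_pullback_iff f U.ι).2 h)
    exact relIdeal_le_of_basis hψ hm b
  · intro h
    obtain ⟨b⟩ := nonempty_basis_of_relIdeal_le hψ hm h
    exact (freeAlong_pullback_iff f U.ι).1 (freeAlong_of_basis (KFlatLib.pb f F) hU b)

include hW hU hle in
/-- Near a point of a free pullback the module is generated by `r` sections. -/
theorem exists_gen_of_freeAlong (hF : CohB1.IsFT F) (h : FreeAlong r F (U.ι ≫ f)) {t : T} (ht : t ∈ U) :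
    ∃ V : X.Opens, f t ∈ V ∧ IsAffineOpen V ∧ Gen F r V := by
  letI : Algebra Γ(X, W) Γ(T, U) := (f.appLE W U hle).hom.toAlgebra
  letI : Module Γ(X, W) Γ(KFlatLib.pb f F, U) := Module.compHom _ (f.appLE W U hle).hom
  haveI : IsScalarTower Γ(X, W) Γ(T, U) Γ(KFlatLib.pb f F, U) :=
    ⟨fun a b c => mul_smul ((f.appLE W U hle).hom a) b c⟩
  obtain ⟨ψ, hψ⟩ := exists_baseChange F hW f hU hle
  obtain ⟨b⟩ := nonempty_basis_of_freeAlong (KFlatLib.pb f F) ((freeAlong_pullback_iff f U.ι).2 h)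
  have hr := fibreRank_le_of_basis hψ b (hU.primeIdealOf ⟨t, ht⟩)
  rw [show PrimeSpectrum.comap (algebraMap Γ(X, W) Γ(T, U)) (hU.primeIdealOf ⟨t, ht⟩) =
    hW.primeIdealOf ⟨f t, hle ht⟩ from IsAffineOpen.comap_primeIdealOf_appLE W hW U hU hle ht] at hr
  have := QCohLib.finite_of_isFT hF hW
  obtain ⟨g, hg, m, hgen⟩ := exists_generators (hW.primeIdealOf ⟨f t, hle ht⟩) (le_of_eq hr)
  have hft : f t ∈ X.basicOpen g := by
    have h1 : hW.primeIdealOf ⟨f t, hle ht⟩ ∈ hW.fromSpec ⁻¹ᵁ X.basicOpen g := by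
      rw [hW.fromSpec_preimage_basicOpen]
      exact hg
    have h2 : hW.fromSpec (hW.primeIdealOf ⟨f t, hle ht⟩) ∈ X.basicOpen g := h1
    rwa [hW.fromSpec_primeIdealOf] at h2
  let res := F.presheaf.map (homOfLE (X.basicOpen_le g)).op
  refine ⟨X.basicOpen g, hft, hW.basicOpen g, fun i => res (m i), ?_⟩
  refine eq_top_iff.2 fun s hs => ?_
  clear hs
  have hloc := QCohLib.localizingAt_of_isQCoh hW F g
  obtain ⟨k, x, hx⟩ := hloc.exists_extend s
  obtain ⟨l, hl⟩ := hgen x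
  have hu := QCohLib.isUnit_res g (le_refl (X.basicOpen g))
  have hmem : ∀ y ∈ Submodule.span Γ(X, W) (Set.range m),
      res y ∈ Submodule.span Γ(X, X.basicOpen g) (Set.range fun i => res (m i)) := by
    intro y hy
    induction hy using Submodule.span_induction with
    | mem y hy => obtain ⟨i, rfl⟩ := hy; exact Submodule.subset_span ⟨i, rfl⟩
    | zero => rw [map_zero]; exact zero_mem _
    | add y z _ _ hy hz => rw [map_add]; exact add_mem hy hz
    | smul a y _ hy => rw [Scheme.Modules.map_smul]; exact Submodule.smul_mem _ _ hy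
  have h3 := hmem _ hl
  rw [Scheme.Modules.map_smul, hx, ← mul_smul, map_pow] at h3
  exact (Submodule.smul_mem_iff_of_isUnit _ ((hu.pow l).mul (hu.pow k))).1 h3

end Affine

/-- A morphism into `W`, through the spectrum of its sections. -/
theorem comp_toSpecΓ_eq (g : T ⟶ (W : Scheme.{u})) (h : (⊤ : T.Opens) ≤ (g ≫ W.ι) ⁻¹ᵁ W) :
    g ≫ W.toSpecΓ = T.toSpecΓ ≫ Spec.map ((g ≫ W.ι).appLE W ⊤ h) := by
  have hres : (g ≫ W.ι).resLE W ⊤ h = (⊤ : T.Opens).ι ≫ g := by
    rw [← cancel_mono W.ι, Scheme.Hom.resLE_comp_ι, Category.assoc]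
  haveI : IsIso (⊤ : T.Opens).ι := T.topIso.isIso_hom
  rw [← cancel_epi (⊤ : T.Opens).ι, ← Category.assoc, ← hres,
    ← Scheme.Opens.toSpecΓ_SpecMap_appLE, Scheme.Opens.toSpecΓ_top, Category.assoc]

theorem appTop_toSpecΓ_SpecMap {A : CommRingCat.{u}} (φ : A ⟶ Γ(T, ⊤)) :
    (Scheme.ΓSpecIso A).inv ≫ (T.toSpecΓ ≫ Spec.map φ).appTop = φ := by
  rw [Scheme.Hom.comp_appTop, Scheme.toSpecΓ_appTop, ← Category.assoc,
    ← Scheme.ΓSpecIso_inv_naturality, Category.assoc, Iso.inv_hom_id, Category.comp_id]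

include hW in
/-- The closed subscheme of relations represents freeness of rank `r`. -/
theorem exists_closedImmersion_of_gen (hgen : Gen F r W) :
    ∃ (Z : Scheme.{u}) (i : Z ⟶ (W : Scheme.{u})), IsClosedImmersion i ∧
      ∀ (T : Scheme.{u}) (g : T ⟶ (W : Scheme.{u})),
        LocFreeAlong r F (g ≫ W.ι) ↔ ∃ l : T ⟶ Z, l ≫ i = g := by
  obtain ⟨m, hm⟩ := hgen
  let I : Ideal Γ(X, W) := relIdeal m
  let q : Γ(X, W) ⟶ CommRingCat.of (Γ(X, W) ⧸ I) := CommRingCat.ofHom (Ideal.Quotient.mk I)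
  haveI : IsClosedImmersion (Spec.map q) :=
    IsClosedImmersion.spec_of_surjective q Ideal.Quotient.mk_surjective
  refine ⟨Spec (CommRingCat.of (Γ(X, W) ⧸ I)), Spec.map q ≫ hW.isoSpec.inv, inferInstance,
    fun T g => ?_⟩
  have htop : (⊤ : T.Opens) ≤ (g ≫ W.ι) ⁻¹ᵁ W := fun t _ => (g t).2
  have hle : ∀ U : T.Opens, U ≤ (g ≫ W.ι) ⁻¹ᵁ W := fun U => le_top.trans htop
  have hmap : ∀ (U : T.Opens) (a : Γ(X, W)), ((g ≫ W.ι).appLE W U (hle U)).hom a =
      T.presheaf.map (homOfLE le_top).op (((g ≫ W.ι).appLE W ⊤ htop).hom a) := fun U a => by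
    rw [← CommRingCat.comp_apply, Scheme.Hom.appLE_map]
  have key : LocFreeAlong r F (g ≫ W.ι) ↔ I ≤ RingHom.ker ((g ≫ W.ι).appLE W ⊤ htop).hom := by
    constructor
    · intro h a ha
      have hloc : ∀ t : T, ∃ U : T.Opens, t ∈ U ∧ IsAffineOpen U ∧ FreeAlong r F (U.ι ≫ g ≫ W.ι) :=
        fun t => by
          obtain ⟨O, htO, hO⟩ := h t
          obtain ⟨U, hU, htU, hUO⟩ := exists_isAffineOpen_mem_and_subset (X := T) (x := t) (U := O) htO
          exact ⟨U, htU, hU, freeAlong_of_le hO hUO⟩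
      choose U htU hU hUf using hloc
      refine T.sheaf.eq_of_locally_eq' U ⊤ (fun t => homOfLE le_top)
        (fun t _ => Opens.mem_iSup.2 ⟨t, htU t⟩) _ 0 fun t => ?_
      refine ((hmap (U t) a).symm.trans ?_).trans (map_zero _).symm
      exact (freeAlong_iff_relIdeal_le F hW (g ≫ W.ι) (hU t) (hle _) hm).1 (hUf t) ha
    · intro h t
      obtain ⟨U, hU, htU, -⟩ := exists_isAffineOpen_mem_and_subset (X := T) (x := t) (U := ⊤) trivial
      refine ⟨U, htU, (freeAlong_iff_relIdeal_le F hW (g ≫ W.ι) hU (hle _) hm).2 fun a ha => ?_⟩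
      rw [RingHom.mem_ker, hmap, RingHom.mem_ker.1 (h ha), map_zero]
  have hg : g ≫ hW.isoSpec.hom = T.toSpecΓ ≫ Spec.map ((g ≫ W.ι).appLE W ⊤ htop) :=
    comp_toSpecΓ_eq g htop
  rw [key]
  constructor
  · intro h
    let ψ : CommRingCat.of (Γ(X, W) ⧸ I) ⟶ Γ(T, ⊤) :=
      CommRingCat.ofHom (Ideal.Quotient.lift I ((g ≫ W.ι).appLE W ⊤ htop).hom fun a ha => h ha)
    refine ⟨T.toSpecΓ ≫ Spec.map ψ, ?_⟩
    have hqψ : q ≫ ψ = (g ≫ W.ι).appLE W ⊤ htop := by
      ext a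
      rfl
    rw [Category.assoc, ← Category.assoc (Spec.map ψ), ← Spec.map_comp, hqψ, ← Category.assoc,
      Iso.comp_inv_eq, hg]
  · rintro ⟨l, hl⟩ a ha
    have hl' : T.toSpecΓ ≫ Spec.map ((g ≫ W.ι).appLE W ⊤ htop) = l ≫ Spec.map q := by
      rw [← hg, ← hl, Category.assoc, Category.assoc, Iso.inv_hom_id, Category.comp_id]
    have h1 := congrArg (fun φ => (Scheme.ΓSpecIso Γ(X, W)).inv ≫ Scheme.Hom.appTop φ) hl'
    rw [appTop_toSpecΓ_SpecMap, Scheme.Hom.comp_appTop, ← Category.assoc,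
      ← Scheme.ΓSpecIso_inv_naturality] at h1
    rw [RingHom.mem_ker, h1]
    change (Scheme.Hom.appTop l).hom ((Scheme.ΓSpecIso _).inv.hom (q.hom a)) = 0
    rw [show q.hom a = 0 from Ideal.Quotient.eq_zero_iff_mem.2 ha, map_zero, map_zero]

/-- The open set over which `F` is locally generated by `r` sections. -/
def genLocus (r : ℕ) : X.Opens :=
  ⨆ (W : X.Opens) (_ : IsAffineOpen W ∧ Gen F r W), W

theorem mem_genLocus {x : X} : x ∈ genLocus F r ↔ ∃ W : X.Opens, x ∈ W ∧ IsAffineOpen W ∧ Gen F r W := by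
  simp only [genLocus, Opens.mem_iSup, exists_prop]
  exact ⟨fun ⟨W, ⟨h1, h2⟩, hx⟩ => ⟨W, hx, h1, h2⟩, fun ⟨W, hx, h1, h2⟩ => ⟨W, ⟨h1, h2⟩, hx⟩⟩

theorem mem_genLocus_of_locFreeAlong (hF : CohB1.IsFT F) {f : T ⟶ X} (h : LocFreeAlong r F f) (t : T) :
    f t ∈ genLocus F r := by
  obtain ⟨O, htO, hO⟩ := h t
  obtain ⟨W, hW, hfW, -⟩ := exists_isAffineOpen_mem_and_subset (X := X) (x := f t) (U := ⊤) trivial
  obtain ⟨U, hU, htU, hUO⟩ := exists_isAffineOpen_mem_and_subset (X := T) (x := t)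
    (U := O ⊓ f ⁻¹ᵁ W) ⟨htO, hfW⟩
  exact (mem_genLocus F).2 (exists_gen_of_freeAlong F hW f hU (hUO.trans inf_le_right) hF
    (freeAlong_of_le hO (hUO.trans inf_le_left)) htU)

variable (r) in
/-- **The rank locus**: an immersion, closed if `F` is everywhere locally generated by `r` sections. -/
theorem exists_immersion (hF : CohB1.IsFT F) :
    ∃ (Z : Scheme.{u}) (i : Z ⟶ X), IsImmersion i ∧
      (∀ (T : Scheme.{u}) (f : T ⟶ X), (∃ g : T ⟶ Z, g ≫ i = f) ↔ LocFreeAlong r F f) ∧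
      (genLocus F r = ⊤ → IsClosedImmersion i) := by
  let U := genLocus F r
  let P : ∀ T : Scheme.{u}, (T ⟶ (U : Scheme.{u})) → Prop := fun T g => LocFreeAlong r F (g ≫ U.ι)
  have hlocal : ∀ y : (U : Scheme.{u}), ∃ (V : (U : Scheme.{u}).Opens) (Z : Scheme.{u})
      (i : Z ⟶ (V : Scheme.{u})), y ∈ V ∧ IsClosedImmersion i ∧
      ∀ (T : Scheme.{u}) (g : T ⟶ (V : Scheme.{u})), P T (g ≫ V.ι) ↔ ∃ l : T ⟶ Z, l ≫ i = g := fun y => by
    obtain ⟨W, hyW, hW, hgen⟩ := (mem_genLocus F).1 y.2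
    obtain ⟨Z, i, hi, hu⟩ := exists_closedImmersion_of_gen F hW hgen
    refine ⟨U.ι ⁻¹ᵁ W, pullback (U.ι ∣_ W) i, pullback.fst _ _, hyW,
      MorphismProperty.pullback_fst _ _ hi, fun T g => ?_⟩
    have e : (g ≫ (U.ι ⁻¹ᵁ W).ι) ≫ U.ι = (g ≫ U.ι ∣_ W) ≫ W.ι := by
      simp only [Category.assoc, morphismRestrict_ι]
    change LocFreeAlong r F ((g ≫ (U.ι ⁻¹ᵁ W).ι) ≫ U.ι) ↔ _
    rw [e, hu]
    constructor
    · rintro ⟨l, hl⟩
      exact ⟨pullback.lift g l hl.symm, pullback.lift_fst _ _ _⟩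
    · rintro ⟨l, rfl⟩
      exact ⟨l ≫ pullback.snd _ _, by rw [Category.assoc, ← pullback.condition, Category.assoc]⟩
  obtain ⟨Z, i, hi, hu⟩ := exists_immersion_of_local P
    (fun g V h => by
      change LocFreeAlong r F ((V.ι ≫ g) ≫ U.ι)
      rw [Category.assoc]
      exact locFreeAlong_comp h V.ι)
    (fun g h => locFreeAlong_of_local _ fun t => by
      obtain ⟨V, hV, hP⟩ := h t
      exact ⟨V, hV, (Category.assoc V.ι g U.ι).symm ▸ hP⟩)
    (fun y => by
      obtain ⟨V, Z, i, hy, hi, hu⟩ := hlocal y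
      exact ⟨V, hy, Z, i, inferInstance, hu⟩)
  refine ⟨Z, i ≫ U.ι, inferInstance, fun T f => ⟨?_, fun h => ?_⟩, fun htop => ?_⟩
  · rintro ⟨g, rfl⟩
    have : P T (g ≫ i) := (hu T _).1 ⟨g, rfl⟩
    simpa only [P, Category.assoc] using this
  · have hr : Set.range f ⊆ Set.range U.ι := by
      rintro _ ⟨t, rfl⟩
      rw [Scheme.Opens.range_ι]
      exact mem_genLocus_of_locFreeAlong F hF h t
    obtain ⟨g, hg⟩ := (hu T (IsOpenImmersion.lift U.ι f hr)).2 (by
      change LocFreeAlong r F (_ ≫ U.ι)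
      rwa [IsOpenImmersion.lift_fac])
    exact ⟨g, by rw [← Category.assoc, hg, IsOpenImmersion.lift_fac]⟩
  · haveI : IsClosedImmersion i := by
      choose V Zl il hy hil hul using hlocal
      refine (IsZariskiLocalAtTarget.iff_of_iSup_eq_top (P := @IsClosedImmersion) V
        (top_le_iff.1 fun y _ => Opens.mem_iSup.2 ⟨y, hy y⟩)).2 fun y => ?_
      obtain ⟨a, ha⟩ := (hul y _ (i ∣_ V y)).1 (by
        rw [morphismRestrict_ι]
        exact (hu _ _).1 ⟨(i ⁻¹ᵁ V y).ι, rfl⟩)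
      obtain ⟨b, hb⟩ := (hu _ (il y ≫ (V y).ι)).2 ((hul y _ (il y)).2 ⟨𝟙 _, Category.id_comp _⟩)
      let c : Zl y ⟶ ((i ⁻¹ᵁ V y : Z.Opens) : Scheme.{u}) :=
        IsOpenImmersion.lift (i ⁻¹ᵁ V y).ι b (by
          rintro _ ⟨z, rfl⟩
          rw [Scheme.Opens.range_ι]
          change i (b z) ∈ V y
          rw [← Scheme.Hom.comp_apply, hb]
          exact (il y z).2)
      have hc : c ≫ (i ∣_ V y) = il y := by
        rw [← cancel_mono (V y).ι, Category.assoc, morphismRestrict_ι, ← Category.assoc,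
          IsOpenImmersion.lift_fac, hb]
      haveI : IsIso a := ⟨c, by
        rw [← cancel_mono (i ∣_ V y), Category.assoc, hc, ha, Category.id_comp], by
        rw [← cancel_mono (il y), Category.assoc, ha, hc, Category.id_comp]⟩
      exact ha ▸ (MorphismProperty.cancel_left_of_respectsIso @IsClosedImmersion a (il y)).2 (hil y)
    haveI : IsIso U.ι := by
      exact isIso_of_isOpenImmersion_of_opensRange_eq_top _ (by rw [Scheme.Opens.opensRange_ι]; exact htop)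
    infer_instance

end RankLocusLib
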