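import Groth.Agent.RankLocusLib.Locus
import Groth.Agent.FormalLib.ModPow

/-!
A local epimorphism from a free module gives local generators.
-/

set_option autoImplicit false

noncomputable section

universe u

open CategoryTheory CategoryTheory.Limits AlgebraicGeometry TopologicalSpace Opposite

namespace RankLocusLib

variable {X : Scheme.{u}} (F : X.Modules) [Coh.IsQCoh F] {r : ℕ}

theorem genLocus_eq_top
    (h : ∀ s : X, ∃ U : X.Opens, s ∈ U ∧ ∃ p : FlatMod.freeMod (↑U) r ⟶ F.restrict U.ι, Epi p) :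
    genLocus F r = ⊤ := by
  refine top_le_iff.1 fun s _ => ?_
  obtain ⟨U, hsU, p, hp⟩ := h s
  obtain ⟨V, hV, hsV, -⟩ := exists_isAffineOpen_mem_and_subset (X := (U : Scheme.{u})) (x := ⟨s, hsU⟩)
    (U := ⊤) trivial
  refine (mem_genLocus F).2 ⟨U.ι ''ᵁ V, ⟨⟨s, hsU⟩, hsV, rfl⟩, hV.image_of_isOpenImmersion _, ?_⟩
  have : Coh.IsQCoh (F.restrict U.ι) := inferInstance
  have : Coh.IsQCoh (FlatMod.freeMod (U : Scheme.{u}) r) := LocSuppLib.isQCoh_freeMod _ r
  obtain ⟨b⟩ := nonempty_basis_of_freeAlong (FlatMod.freeMod (U : Scheme.{u}) r) (U := V)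
    ⟨KFlatLib.pullFreeIso V.ι r⟩
  refine ⟨fun i => (Scheme.Modules.restrictAppIso U.ι F V).hom (p.app V (b i)),
    eq_top_iff.2 fun x hx => ?_⟩
  clear hx
  obtain ⟨y, hy⟩ := FormalLib.app_surjective_of_epi _ p hV x
  have hmem : ∀ z : Γ(FlatMod.freeMod (U : Scheme.{u}) r, V), z ∈ Submodule.span Γ((U : Scheme.{u}), V)
      (Set.range b) → (Scheme.Modules.restrictAppIso U.ι F V).hom (p.app V z) ∈
        Submodule.span Γ(X, U.ι ''ᵁ V) (Set.range fun i =>
          (Scheme.Modules.restrictAppIso U.ι F V).hom (p.app V (b i))) := by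
    intro z hz
    induction hz using Submodule.span_induction with
    | mem y hy => obtain ⟨i, rfl⟩ := hy; exact Submodule.subset_span ⟨i, rfl⟩
    | zero => rw [map_zero, map_zero]; exact zero_mem _
    | add y z _ _ hy hz => rw [map_add, map_add]; exact add_mem hy hz
    | smul a y _ hy =>
      rw [QCohLib.app_smul, Scheme.Modules.smul_restrictAppIso_hom_apply]
      exact Submodule.smul_mem _ _ hy
  have h2 := hmem y (b.span_eq ▸ Submodule.mem_top)
  rw [hy] at h2
  exact h2

end RankLocusLib
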