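import Mathlib

/-!
A property of morphisms to `X` which is local on the source and representable by an immersion near
every point of `X` is representable by an immersion.
-/

set_option autoImplicit false

noncomputable section

universe u

open CategoryTheory CategoryTheory.Limits AlgebraicGeometry TopologicalSpace Opposite

namespace RankLocusLib

variable {X : Scheme.{u}} (P : ∀ T : Scheme.{u}, (T ⟶ X) → Prop)

/-- An immersion into an open `W` representing `P` on morphisms into `W`. -/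
def RepAt (W : X.Opens) : Prop :=
  ∃ (Z : Scheme.{u}) (i : Z ⟶ (W : Scheme.{u})), IsImmersion i ∧
    ∀ (T : Scheme.{u}) (f : T ⟶ (W : Scheme.{u})), P T (f ≫ W.ι) ↔ ∃ g : T ⟶ Z, g ≫ i = f

variable {P}

theorem repAt_of_le {W U : X.Opens} (h : RepAt P W) (hle : U ≤ W) : RepAt P U := by
  obtain ⟨Z, i, hi, hu⟩ := h
  refine ⟨pullback (X.homOfLE hle) i, pullback.fst _ _,
    MorphismProperty.pullback_fst _ _ hi, fun T f => ?_⟩
  have e : f ≫ U.ι = (f ≫ X.homOfLE hle) ≫ W.ι := by rw [Category.assoc, Scheme.homOfLE_ι]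
  constructor
  · intro hP
    obtain ⟨g, hg⟩ := (hu T _).1 (e ▸ hP)
    exact ⟨pullback.lift f g hg.symm, pullback.lift_fst _ _ _⟩
  · rintro ⟨g, rfl⟩
    rw [e, hu]
    exact ⟨g ≫ pullback.snd _ _, by rw [Category.assoc, ← pullback.condition, Category.assoc]⟩

variable (B : Set X.AffineZariskiSite)
  (hB : ∀ (U : X.AffineZariskiSite) (r : Γ(X, U.1)), U ∈ B → U.basicOpen r ∈ B)
  (hcov : ∀ x : X, ∃ U ∈ B, x ∈ U.1)

/-- The cover by the members of `B`. -/
@[simps] def subCover : X.OpenCover where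
  I₀ := B
  X U := U.1.1
  f U := U.1.1.ι
  mem₀ := by
    rw [Scheme.presieve₀_mem_precoverage_iff]
    refine ⟨fun x => ?_, fun U => inferInstanceAs (IsOpenImmersion U.1.1.ι)⟩
    obtain ⟨U, hU, hx⟩ := hcov x
    exact ⟨⟨U, hU⟩, ⟨x, hx⟩, rfl⟩

@[reducible] def subCat : Category (subCover B hcov).I₀ :=
  inferInstanceAs (Category B)

include hB in
set_option backward.isDefEq.respectTransparency false in
/-- The cover is locally directed. -/
theorem exists_directed : letI := subCat B hcov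
    Nonempty (subCover B hcov).LocallyDirected := by
  letI := subCat B hcov
  refine ⟨{ trans := fun {U V} f => X.homOfLE (Scheme.AffineZariskiSite.toOpens_mono (leOfHom f))
            directed := fun {U V} x => ?_ }⟩
  let a := (pullback.fst _ _ ≫ U.1.1.ι) x
  have haU : a ∈ U.1.1 := (pullback.fst U.1.1.ι V.1.1.ι x).2
  have haV : a ∈ V.1.1 := by
    change (pullback.fst ((subCover B hcov).f U) ((subCover B hcov).f V) ≫ (subCover B hcov).f U) x ∈ V.1.1
    rw [pullback.condition]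
    exact (pullback.snd U.1.1.ι V.1.1.ι x).2
  obtain ⟨f, g, e, hxf⟩ := exists_basicOpen_le_affine_inter U.1.2 V.1.2 _ ⟨haU, haV⟩
  have e' : U.1.basicOpen f = V.1.basicOpen g := Subtype.ext (by exact e)
  let K : B := ⟨U.1.basicOpen f, hB _ f U.2⟩
  refine ⟨K, (homOfLE (show K.1 ≤ U.1 from U.1.basicOpen_le f) : K ⟶ (U : B)),
    (homOfLE (show K.1 ≤ V.1 from (le_of_eq e').trans (V.1.basicOpen_le g)) : K ⟶ (V : B)), ⟨a, hxf⟩, ?_⟩
  apply (pullback.fst _ _ ≫ U.1.1.ι).isOpenEmbedding.injective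
  dsimp
  change (pullback.lift _ _ _ ≫ pullback.fst _ _ ≫ U.1.1.ι) _ = _
  simp only [pullback.lift_fst_assoc, Scheme.homOfLE_ι, Scheme.Opens.ι_apply]
  rfl

variable (P)

/-- **Gluing**: a property local on the source and representable by immersions near every point. -/
theorem exists_immersion_of_local
    (hres : ∀ {T : Scheme.{u}} (f : T ⟶ X) (V : T.Opens), P T f → P _ (V.ι ≫ f))
    (hloc : ∀ {T : Scheme.{u}} (f : T ⟶ X), (∀ t : T, ∃ V : T.Opens, t ∈ V ∧ P _ (V.ι ≫ f)) → P T f)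
    (hrep : ∀ x : X, ∃ W : X.Opens, x ∈ W ∧ RepAt P W) :
    ∃ (Z : Scheme.{u}) (i : Z ⟶ X), IsImmersion i ∧
      ∀ (T : Scheme.{u}) (f : T ⟶ X), (∃ g : T ⟶ Z, g ≫ i = f) ↔ P T f := by
  let B : Set X.AffineZariskiSite := {U | RepAt P U.1}
  have hB : ∀ (U : X.AffineZariskiSite) (r : Γ(X, U.1)), U ∈ B → U.basicOpen r ∈ B := fun U r hU =>
    repAt_of_le hU (Scheme.AffineZariskiSite.toOpens_mono (U.basicOpen_le r))
  have hcov : ∀ x : X, ∃ U ∈ B, x ∈ U.1 := fun x => by
    obtain ⟨W, hxW, hW⟩ := hrep x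
    obtain ⟨U, hU, hxU, hUW⟩ := exists_isAffineOpen_mem_and_subset (X := X) (x := x) (U := W) hxW
    exact ⟨⟨U, hU⟩, repAt_of_le hW hUW, hxU⟩
  letI := subCat B hcov
  obtain ⟨_⟩ := exists_directed B hB hcov
  haveI : Quiver.IsThin (subCover B hcov).I₀ := fun (a b : B) => (inferInstance : Subsingleton (a ⟶ b))
  choose Zf h hi hu using fun U : (subCover B hcov).I₀ => (show RepAt P U.1.1 from U.2)
  have hP : ∀ U, P _ (h U ≫ U.1.1.ι) := fun U => (hu U _ (h U)).2 ⟨𝟙 _, Category.id_comp _⟩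
  have hex : ∀ {U V : (subCover B hcov).I₀} (f : U ⟶ V), ∃ v : Zf U ⟶ Zf V,
      v ≫ h V = h U ≫ X.homOfLE (Scheme.AffineZariskiSite.toOpens_mono (leOfHom f)) := fun {U V} f =>
    (hu V _ _).1 (by rw [Category.assoc, Scheme.homOfLE_ι]; exact hP U)
  choose v hv using @hex
  let F : (subCover B hcov).I₀ ⥤ Scheme.{u} :=
    { obj := Zf
      map := fun f => v f
      map_id := fun U => by
        rw [← cancel_mono (h U), hv, Category.id_comp, Scheme.homOfLE_rfl, Category.comp_id]
      map_comp := fun {U V W} f g => by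
        rw [← cancel_mono (h W), hv, Category.assoc, hv, ← Category.assoc (v f), hv, Category.assoc,
          Scheme.homOfLE_homOfLE] }
  let α : F ⟶ (subCover B hcov).functorOfLocallyDirected :=
    { app := fun U => h U
      naturality := fun U V f => by
        refine (cancel_mono V.1.1.ι).1 ?_
        change (v f ≫ h V) ≫ _ = (h U ≫ (subCover B hcov).trans f) ≫ _
        rw [hv, Category.assoc, Category.assoc, Scheme.homOfLE_ι]
        exact congrArg (h U ≫ ·) ((subCover B hcov).trans_map f).symm }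
  have heq : α.Equifibered := by
    intro U V f
    have hw : v f ≫ h V = h U ≫ (subCover B hcov).trans f := α.naturality f
    have hlift : ∀ s : PullbackCone (h V) ((subCover B hcov).trans f),
        ∃ m : s.pt ⟶ Zf U, m ≫ v f = s.fst ∧ m ≫ h U = s.snd := by
      intro s
      have hs : s.snd ≫ U.1.1.ι = (s.fst ≫ h V) ≫ V.1.1.ι := by
        rw [s.condition, Category.assoc]
        exact congrArg (s.snd ≫ ·) ((subCover B hcov).trans_map f).symm
      obtain ⟨m, hm⟩ := (hu U _ s.snd).1 ((congrArg (P _) hs).mpr ((hu V _ _).2 ⟨s.fst, rfl⟩))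
      refine ⟨m, ?_, hm⟩
      rw [← cancel_mono (h V), Category.assoc, hw]
      exact (Category.assoc m (h U) _).symm.trans ((congrArg (· ≫ (subCover B hcov).trans f) hm).trans s.condition.symm)
    choose l hl₁ hl₂ using hlift
    exact ⟨⟨hw⟩, ⟨PullbackCone.IsLimit.mk _ l hl₁ hl₂ fun s m _ h2 =>
      (cancel_mono (h U)).1 (h2.trans (hl₂ s).symm)⟩⟩
  let D : (subCover B hcov).RelativeGluingData := ⟨F, α, heq⟩
  haveI : Small.{u} (subCover B hcov).I₀ := inferInstanceAs (Small.{u} B)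
  haveI : (D.functor ⋙ Scheme.forget).IsLocallyDirected :=
    Scheme.Cover.RelativeGluingData.instIsLocallyDirectedI₀CompFunctorForgetOfIsThin ..
  haveI : ∀ {U V : (subCover B hcov).I₀} (f : U ⟶ V), IsOpenImmersion (D.functor.map f) := fun f =>
    Scheme.Cover.RelativeGluingData.instIsOpenImmersionMapI₀Functor D f
  haveI : HasColimit D.functor := inferInstance
  have hsq : ∀ U, IsPullback (h U) (colimit.ι D.functor U) U.1.1.ι D.toBase := fun U =>
    D.isPullback_natTrans_ι_toBase U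
  have himm : IsImmersion D.toBase := by
    refine (IsZariskiLocalAtTarget.iff_of_openCover (P := @IsImmersion) (subCover B hcov)).2 fun U => ?_
    exact ((MorphismProperty.cancel_left_of_respectsIso @IsImmersion (hsq U).flip.isoPullback.hom _).1
      ((hsq U).flip.isoPullback_hom_snd.symm ▸ hi U))
  have hbase : P _ D.toBase := by
    refine hloc _ fun z => ?_
    obtain ⟨U, y, rfl⟩ : ∃ U y, colimit.ι D.functor U y = z := ⟨_, D.cover.covers z⟩
    haveI : IsOpenImmersion (colimit.ι D.functor U) := inferInstanceAs (IsOpenImmersion (D.cover.f U))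
    let ι := colimit.ι D.functor U
    refine ⟨ι.opensRange, ⟨y, rfl⟩, ?_⟩
    have e : ι.opensRange.ι ≫ D.toBase = (ι.isoOpensRange.inv ≫ h U) ≫ U.1.1.ι := by
      rw [← ι.isoOpensRange_inv_comp, Category.assoc, Category.assoc]
      exact congrArg (_ ≫ ·) (D.ι_toBase U)
    rw [e, hu]
    exact ⟨ι.isoOpensRange.inv, rfl⟩
  refine ⟨D.glued, D.toBase, himm, fun T f => ⟨?_, fun hf => ?_⟩⟩
  · rintro ⟨g, rfl⟩
    refine hloc _ fun t => ?_
    obtain ⟨U, y, hy⟩ : ∃ U y, colimit.ι D.functor U y = g t := ⟨_, D.cover.covers (g t)⟩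
    haveI : IsOpenImmersion (colimit.ι D.functor U) := inferInstanceAs (IsOpenImmersion (D.cover.f U))
    let ι := colimit.ι D.functor U
    let V := g ⁻¹ᵁ ι.opensRange
    refine ⟨V, ⟨y, hy⟩, ?_⟩
    have e : V.ι ≫ g ≫ D.toBase = ((g ∣_ ι.opensRange) ≫ ι.isoOpensRange.inv ≫ h U) ≫ U.1.1.ι := by
      rw [← Category.assoc, ← morphismRestrict_ι, ← ι.isoOpensRange_inv_comp]
      simp only [Category.assoc]
      exact congrArg (fun k => (g ∣_ ι.opensRange) ≫ ι.isoOpensRange.inv ≫ k) (D.ι_toBase U)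
    rw [e, hu]
    exact ⟨(g ∣_ ι.opensRange) ≫ ι.isoOpensRange.inv, by rw [Category.assoc]⟩
  · have hl : ∀ U : (subCover B hcov).I₀, ∃ g : ((f ⁻¹ᵁ U.1.1 : T.Opens) : Scheme.{u}) ⟶ D.glued,
        g ≫ D.toBase = (f ⁻¹ᵁ U.1.1).ι ≫ f := fun U => by
      obtain ⟨g, hg⟩ := (hu U _ (f ∣_ U.1.1)).1 (by rw [morphismRestrict_ι]; exact hres f _ hf)
      refine ⟨g ≫ colimit.ι D.functor U, ?_⟩
      rw [← morphismRestrict_ι, ← hg, Category.assoc, Category.assoc]
      exact congrArg (g ≫ ·) (D.ι_toBase U)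
    choose g hg using hl
    haveI := himm
    let 𝒰 : T.OpenCover := T.openCoverOfIsOpenCover (fun U : (subCover B hcov).I₀ => f ⁻¹ᵁ U.1.1)
      (IsOpenCover.mk (top_le_iff.1 fun t _ => Opens.mem_iSup.2 (by
        obtain ⟨U, hU, htU⟩ := hcov (f t)
        exact ⟨⟨U, hU⟩, htU⟩)))
    refine ⟨𝒰.glueMorphisms g fun U V => ?_, 𝒰.hom_ext _ _ fun U => ?_⟩
    · rw [← cancel_mono D.toBase, Category.assoc, Category.assoc]
      refine (congrArg (_ ≫ ·) (hg U)).trans (Eq.trans ?_ (congrArg (_ ≫ ·) (hg V)).symm)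
      exact (Category.assoc _ _ _).symm.trans ((congrArg (· ≫ f) pullback.condition).trans (Category.assoc _ _ _))
    · rw [Scheme.Cover.ι_glueMorphisms_assoc]
      exact hg U

end RankLocusLib
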